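import Cfsg.Agent.Lib.LA5.StronglyEmbedded
import Cfsg.Agent.Lib.Coprime.Generation
import Cfsg.Agent.Lib.PLocal.Thompson

/-!
With a strongly `p`-embedded subgroup, two normal subgroups of order divisible by `p` meet in one.
-/

set_option autoImplicit false
set_option linter.unusedSectionVars false

namespace Cfsg.Agent.Lib.FusionP3.StrongAG

open Subgroup Cfsg.Agent.Lib.LA5.StronglyEmbedded

variable {G : Type*} [Group G] [Finite G] {p : ℕ} [hp : Fact p.Prime]

theorem exists_order_p (S : Sylow p G) (M : Subgroup G) [M.Normal] (hM : p ∣ Nat.card M) :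
    ∃ a ∈ (S : Subgroup G) ⊓ M, orderOf a = p := by
  have hd : p ∣ Nat.card ((S : Subgroup G) ⊓ M : Subgroup G) := by
    have h1 := relIndex_mul_relIndex ⊥ ((S : Subgroup G) ⊓ M) M bot_le inf_le_right
    rw [relIndex_bot_left, relIndex_bot_left] at h1
    rcases hp.out.dvd_mul.1 (h1.symm ▸ hM) with h | h
    · exact h
    · exact absurd h (PLocal.not_dvd_relIndex_inf S M)
  obtain ⟨x, hx⟩ := exists_prime_orderOf_dvd_card' p hd
  exact ⟨x, x.2, by rwa [Subgroup.orderOf_coe]⟩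

/-- Two normal subgroups of order divisible by `p` meet in a subgroup of order divisible by `p`. -/
theorem dvd_card_inf {H : Subgroup G} (hH : H ≠ ⊤) (hpH : p ∣ Nat.card H) (hse : TI p H)
    {M₁ M₂ : Subgroup G} [M₁.Normal] [M₂.Normal] (h₁ : p ∣ Nat.card M₁) (h₂ : p ∣ Nat.card M₂) :
    p ∣ Nat.card (M₁ ⊓ M₂ : Subgroup G) := by
  by_contra hW
  set W := M₁ ⊓ M₂ with hWdef
  haveI : W.Normal := normal_inf_normal M₁ M₂
  obtain ⟨S, hSH, -⟩ := exists_sylow_le hse hpH
  obtain ⟨a, ha, hao⟩ := exists_order_p S M₁ h₁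
  obtain ⟨b, hb, hbo⟩ := exists_order_p S M₂ h₂
  have hcopW : (Nat.card W).Coprime p := (hp.out.coprime_iff_not_dvd.2 hW).symm
  have hSW : ∀ x : G, x ∈ (S : Subgroup G) → x ∈ W → x = 1 := by
    intro x hxS hxW
    obtain ⟨k, hk⟩ := S.isPGroup' ⟨x, hxS⟩
    refine orderOf_eq_one_iff.1 (Nat.eq_one_of_dvd_coprimes (hcopW.pow_right k) ?_ ?_)
    · have h := orderOf_dvd_natCard (⟨x, hxW⟩ : W)
      rwa [Subgroup.orderOf_mk] at h
    · exact orderOf_dvd_of_pow_eq_one (congrArg Subtype.val hk)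
  have hcomm : Commute a b := by
    refine mul_inv_eq_one.1 ?_
    rw [show a * b * (b * a)⁻¹ = a * b * a⁻¹ * b⁻¹ by group]
    refine hSW _ (mul_mem (mul_mem (mul_mem ha.1 hb.1) (inv_mem ha.1)) (inv_mem hb.1)) ⟨?_, ?_⟩
    · rw [show a * b * a⁻¹ * b⁻¹ = a * (b * a⁻¹ * b⁻¹) by group]
      exact mul_mem ha.2 (Normal.conj_mem inferInstance _ (inv_mem ha.2) b)
    · exact mul_mem (Normal.conj_mem inferInstance _ hb.2 a) (Subgroup.inv_mem M₂ hb.2)
  have hone : p ≠ 1 := hp.out.one_lt.ne'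
  have hcl : closure ({a, b} : Set G) ≤ (S : Subgroup G) :=
    (closure_le _).2 (Set.insert_subset ha.1 (Set.singleton_subset_iff.2 hb.1))
  have hcard : (Nat.card (closure ({a, b} : Set G))).Coprime (Nat.card W) := by
    obtain ⟨k, hk⟩ := IsPGroup.iff_card.1 (S.isPGroup'.to_le hcl)
    rw [hk]
    exact hcopW.symm.pow_left k
  have hcent : ∀ x : G, x ∈ (S : Subgroup G) → x ≠ 1 → centralizer ({x} : Set G) ≤ H := by
    intro x hxS hx
    refine le_trans (fun g hg => ?_) (normalizer_le hse (S.isPGroup'.to_le (zpowers_le.2 hxS))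
      (fun h => hx (zpowers_eq_bot.1 h)) (zpowers_le.2 (hSH hxS)))
    refine centralizer_le_normalizer _ ?_
    rw [zpowers_eq_closure, centralizer_closure]
    exact hg
  have hWH : W ≤ H := by
    refine (Coprime.le_lineCentralizers (q := p) hcomm ?_ ?_ ?_ ?_ hcard hcopW.symm).trans
      (sup_le (inf_le_right.trans (hcent b hb.1 fun h => hone (by rw [← hbo, h, orderOf_one])))
        (iSup_le fun t => inf_le_right.trans (hcent _ (mul_mem ha.1 (pow_mem hb.1 _)) ?_)))
    · rw [normalizer_eq_top]; trivial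
    · rw [normalizer_eq_top]; trivial
    · rw [← hao, pow_orderOf_eq_one]; exact one_mem _
    · rw [← hbo, pow_orderOf_eq_one]; exact one_mem _
    · intro h
      have h1 : a ∈ W := ⟨ha.2, by
        rw [show a = (b ^ t.val)⁻¹ from mul_eq_one_iff_eq_inv.1 h]
        exact Subgroup.inv_mem M₂ (Subgroup.pow_mem M₂ hb.2 _)⟩
      exact hone (by rw [← hao, hSW a ha.1 h1, orderOf_one])
  have hM : M₁ ≤ H := by
    intro m hm
    have h1 : m * b * m⁻¹ * b⁻¹ ∈ W := ⟨by
        rw [show m * b * m⁻¹ * b⁻¹ = m * (b * m⁻¹ * b⁻¹) by group]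
        exact mul_mem hm (Normal.conj_mem inferInstance _ (inv_mem hm) b),
      mul_mem (Normal.conj_mem inferInstance _ hb.2 m) (Subgroup.inv_mem M₂ hb.2)⟩
    have h2 : m * b * m⁻¹ ∈ H := by
      have := mul_mem (hWH h1) (hSH hb.1)
      rwa [inv_mul_cancel_right] at this
    refine inv_mem_iff.1 (mem_of_meet hse (S.isPGroup'.to_le (zpowers_le.2 hb.1))
      (fun h => hone (by rw [← hbo, zpowers_eq_bot.1 h, orderOf_one])) (zpowers_le.2 (hSH hb.1))
      (g := m⁻¹) (zpowers_le.2 ⟨m * b * m⁻¹, h2, ?_⟩))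
    simp [mul_assoc]
  refine hH (top_le_iff.1 ?_)
  rw [← PLocal.normalizer_inf_sup_eq_top S M₁]
  refine sup_le (normalizer_le hse (S.isPGroup'.to_le inf_le_left) (fun h => ?_)
    (inf_le_left.trans hSH)) hM
  rw [h, mem_bot] at ha
  exact hone (by rw [← hao, ha, orderOf_one])

end Cfsg.Agent.Lib.FusionP3.StrongAG
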