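import Cfsg.Agent.Lib.FusionP3.StrongAG.Spec
import Cfsg.Agent.Lib.FusionP3.StrongAG.Meet
import Cfsg.Agent.S3056
import Cfsg.Agent.Lib.FusionSystem.Hyperfocal

/-!
The strong form of the Alperin-Goldschmidt theorem.
-/

set_option autoImplicit false
set_option linter.unusedSectionVars false

namespace Cfsg.Agent.Lib.FusionP3.StrongAG

open Subgroup Cfsg.Agent.Lib.Fusion.Alperin
open Cfsg.Agent.Lib.Tech42

variable {G : Type*} [Group G]

/-- `g` decomposes along steps, centralizing elements and elements of `N(P)`. -/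
inductive Good (p : ℕ) (P : Subgroup G) : Set G → G → Prop
  | cen {A : Set G} {g : G} (h : g ∈ centralizer A) : Good p P A g
  | norm {A : Set G} {g : G} (h : g ∈ normalizer (P : Set G)) : Good p P A g
  | edge {A : Set G} {g : G} {H X : Subgroup G} (hH : Spec p P H X g) (hA : A ⊆ H) : Good p P A g
  | comp {A : Set G} {g h : G} (h₁ : Good p P A g)
      (h₂ : Good p P ((fun a => g⁻¹ * a * g) '' A) h) : Good p P A (g * h)

theorem Good.mono {p : ℕ} {P : Subgroup G} {A : Set G} {g : G} (h : Good p P A g) :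
    ∀ {B : Set G}, B ⊆ A → Good p P B g := by
  induction h with
  | cen h => exact fun hB => .cen (centralizer_le hB h)
  | norm h => exact fun _ => .norm h
  | edge hH hA => exact fun hB => .edge hH (hB.trans hA)
  | comp _ _ ih₁ ih₂ => exact fun hB => .comp (ih₁ hB) (ih₂ (Set.image_mono hB))

theorem image_eq_of_normalizer {R : Subgroup G} {n : G} (hn : n ∈ normalizer (R : Set G)) :
    (fun a => n⁻¹ * a * n) '' (R : Set G) = R := by
  refine Set.Subset.antisymm ?_ ?_
  · rintro _ ⟨a, ha, rfl⟩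
    simpa using (mem_normalizer_iff.1 (inv_mem hn) a).1 ha
  · intro a ha
    exact ⟨n * a * n⁻¹, (mem_normalizer_iff.1 hn a).1 ha, by group⟩

theorem Good.comp_normalizer {p : ℕ} {P R : Subgroup G} {g h : G} (hg : g ∈ normalizer (R : Set G))
    (h₁ : Good p P (R : Set G) g) (h₂ : Good p P (R : Set G) h) : Good p P (R : Set G) (g * h) :=
  .comp h₁ (by rwa [image_eq_of_normalizer hg])

variable [Finite G] {p : ℕ} [hp : Fact p.Prime]

theorem lt_map_of_lt {N : Subgroup G} {R : Subgroup G} (hR : R ≤ N) {U : Subgroup N}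
    (h : R.subgroupOf N < U) : R < U.map N.subtype := by
  have h1 : (R.subgroupOf N).map N.subtype = R := map_subgroupOf_eq_of_le hR
  refine lt_of_le_of_ne (h1.ge.trans (map_mono h.le)) fun he => h.ne ?_
  exact map_injective N.subtype_injective (h1.trans he)

/-- The normalizer of a subgroup in the family is good when every larger one is. -/
theorem good_normalizer (P : Sylow p G) (R : Subgroup G) (hRP : R ≤ P) (hRne : R ≠ (P : Subgroup G))
    (hR : IsFullyNormalized p (P : Subgroup G) R)
    (big : ∀ (A : Subgroup G), A ≤ P → R < A → ∀ g : G, (∀ a ∈ A, g⁻¹ * a * g ∈ (P : Subgroup G)) →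
      Good p (P : Subgroup G) (A : Set G) g)
    (n : G) (hn : n ∈ normalizer (R : Set G)) : Good p (P : Subgroup G) (R : Set G) n := by
  rcases Goldschmidt.isMember_or_step P hRP hR with hmem | hstep
  swap
  · obtain ⟨R₁, hlt, hR₁P, c, hc, n₁, hn₁, rfl⟩ := hstep n hn
    refine .comp (.cen hc) ((big R₁ hR₁P hlt n₁ fun a ha => ?_).mono ?_)
    · exact hR₁P (by simpa using (mem_normalizer_iff.1 (inv_mem hn₁) a).1 ha)
    · rintro _ ⟨a, ha, rfl⟩
      simp only [SetLike.mem_coe]
      rw [mul_assoc, mem_centralizer_iff.mp hc a ha, ← mul_assoc, inv_mul_cancel, one_mul]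
      exact hlt.le ha
  set N := normalizer (R : Set G) with hN
  obtain ⟨S, hS⟩ := Goldschmidt.exists_sylow_normalizer P hR
  set R' := R.subgroupOf N with hR'
  haveI hR'n : R'.Normal := normal_in_normalizer
  have hR'S : R' ≤ (S : Subgroup N) := by rw [hS]; exact fun x hx => hRP hx
  have hSlt : R' < (S : Subgroup N) := by
    refine lt_of_le_of_ne hR'S fun he => ?_
    have h1 := Fusion.Alperin.lt_inf_normalizer P.isPGroup' (lt_of_le_of_ne hRP hRne)
    refine h1.not_ge fun x hx => ?_
    have h2 : (⟨x, hx.2⟩ : N) ∈ R' := by rw [he, hS]; exact hx.1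
    exact h2
  -- a conjugation carrying a larger subgroup of `S` into `S` is good
  have hbigN : ∀ U : Subgroup N, R' < U → U ≤ (S : Subgroup N) → ∀ m : N,
      (∀ u ∈ U, m⁻¹ * u * m ∈ (S : Subgroup N)) → Good p (P : Subgroup G) (R : Set G) (m : G) := by
    intro U hU hUS m hm
    refine (big (U.map N.subtype) ?_ (lt_map_of_lt le_normalizer hU) (m : G) ?_).mono
      (lt_map_of_lt le_normalizer hU).le
    · rintro _ ⟨u, hu, rfl⟩
      have := hUS hu
      rw [hS] at this
      exact this
    · rintro _ ⟨u, hu, rfl⟩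
      have := hm u hu
      rw [hS] at this
      exact this
  set π := QuotientGroup.mk' R' with hπ
  have hsurj : Function.Surjective π := QuotientGroup.mk'_surjective R'
  set Sb : Sylow p (N ⧸ R') := S.mapSurjective hsurj with hSb
  have hpre : ((Sb : Subgroup (N ⧸ R'))).comap π = (S : Subgroup N) := by
    rw [hSb, Sylow.coe_mapSurjective, comap_map_eq_self]
    rwa [hπ, QuotientGroup.ker_mk']
  by_cases hconn : Cfsg.IsSylowChainConnected p (N ⧸ R')
  · obtain ⟨k, c, h0, hl, -, hs⟩ := hconn Sb ((π ⟨n, hn⟩) • Sb)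
    have key : ∀ i : Fin (k + 1), ∀ m : N, π m • Sb = c i → Good p (P : Subgroup G) (R : Set G) (m : G) := by
      intro i
      induction i using Fin.induction with
      | zero =>
        intro m hm
        rw [h0, Sylow.smul_eq_iff_mem_normalizer] at hm
        refine hbigN (S : Subgroup N) hSlt le_rfl m fun u hu => ?_
        rw [← hpre, mem_comap] at hu ⊢
        simpa using (mem_normalizer_iff.1 (inv_mem hm) (π u)).1 hu
      | succ i ih =>
        intro m hm
        obtain ⟨q, hq⟩ := MulAction.exists_smul_eq (N ⧸ R') Sb (c i.castSucc)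
        obtain ⟨m', rfl⟩ := hsurj q
        have hne : ((Sb : Subgroup (N ⧸ R')) ⊓ ((π (m'⁻¹ * m) • Sb : Sylow p (N ⧸ R')) : Subgroup (N ⧸ R'))) ≠ ⊥ := by
          intro hbot
          refine (hs i).2 ?_
          have he : c i.succ = π m' • (π (m'⁻¹ * m) • Sb) := by
            rw [smul_smul, ← map_mul, mul_inv_cancel_left, hm]
          rw [← hq, he, Sylow.coe_subgroup_smul, Sylow.coe_subgroup_smul, ← Subgroup.smul_inf, hbot,
            Subgroup.smul_bot]
        have hg : Good p (P : Subgroup G) (R : Set G) ((m'⁻¹ * m : N) : G) := by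
          refine hbigN (((Sb : Subgroup (N ⧸ R')) ⊓ ((π (m'⁻¹ * m) • Sb : Sylow p (N ⧸ R')) : Subgroup (N ⧸ R'))).comap π)
            ?_ ?_ _ fun u hu => ?_
          · refine lt_of_le_of_ne ?_ fun he => hne ?_
            · exact (QuotientGroup.ker_mk' R').ge.trans (MonoidHom.ker_le_comap π _)
            · refine comap_injective hsurj ?_
              rw [← he, MonoidHom.comap_bot, hπ, QuotientGroup.ker_mk']
          · exact hpre ▸ comap_mono inf_le_left
          · rw [← hpre, mem_comap]
            obtain ⟨v, hv, hve⟩ : π u ∈ (Sb : Subgroup (N ⧸ R')).map (MulAut.conj (π (m'⁻¹ * m))).toMonoidHom :=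
              (mem_comap.1 hu).2
            have : π ((m'⁻¹ * m)⁻¹ * u * (m'⁻¹ * m)) = v := by
              rw [map_mul, map_mul, map_inv, ← hve]
              simp [MulAut.conj_apply, mul_assoc]
            rw [this]; exact hv
        have := (ih m' hq).comp_normalizer m'.2 hg
        rwa [← Subgroup.coe_mul, mul_inv_cancel_left] at this
    exact key (Fin.last k) ⟨n, hn⟩ hl.symm
  obtain ⟨Hq, hHq, hpH, hse⟩ := (S3056.result p).1 hconn
  have htop : p ∣ Nat.card (⊤ : Subgroup (N ⧸ R')) := by
    rw [card_top]; exact hpH.trans (card_subgroup_dvd_card Hq)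
  obtain ⟨M, -, hM⟩ := Finite.exists_le_minimal
    (p := fun M : Subgroup (N ⧸ R') => M.Normal ∧ p ∣ Nat.card M) (a := ⊤) ⟨inferInstance, htop⟩
  haveI := hM.1.1
  have hleast : ∀ M' : Subgroup (N ⧸ R'), M'.Normal → p ∣ Nat.card M' → M ≤ M' := by
    intro M' hM' hd
    haveI := hM'
    exact (hM.2 ⟨normal_inf_normal M M', dvd_card_inf hHq hpH hse hM.1.2 hd⟩ inf_le_left).trans inf_le_right
  set X' := M.comap π with hX'
  haveI : X'.Normal := hM.1.1.comap π
  have hR'X : R' ≤ X' := (QuotientGroup.ker_mk' R').ge.trans (MonoidHom.ker_le_comap π _)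
  set X := X'.map N.subtype with hX
  have hXN : X ≤ N := map_subtype_le X'
  have hXsub : X.subgroupOf N = X' := comap_map_eq_self_of_injective N.subtype_injective X'
  have hcard : ∀ Y' : Subgroup N, R' ≤ Y' → R'.relIndex Y' = Nat.card (Y'.map π) := by
    intro Y' _
    rw [← relIndex_ker, QuotientGroup.ker_mk']
  have hrel : ∀ Y : Subgroup G, Y ≤ N → R.relIndex Y = R'.relIndex (Y.subgroupOf N) := by
    intro Y hY
    rw [hR', ← relIndex_map_map_of_injective _ _ N.subtype_injective,
      map_subgroupOf_eq_of_le le_normalizer, map_subgroupOf_eq_of_le hY]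
  have hMX : X'.map π = M := map_comap_eq_self_of_surjective hsurj M
  have hdX : p ∣ R'.relIndex X' := by rw [hcard X' hR'X, hMX]; exact hM.1.2
  set U := (S : Subgroup N) ⊓ X' with hU
  have hUlt : R' < U := lt_of_le_of_ne (le_inf hR'S hR'X) fun he =>
    PLocal.not_dvd_relIndex_inf S X' (by rw [← hU, ← he]; exact hdX)
  have hspecH : ∀ o : G, o ∈ (Cfsg.pResidual p ↥X).map X.subtype → Spec p (P : Subgroup G) R X o := by
    intro o ho
    obtain ⟨-, hC, hdir, hidx⟩ := hmem
    have hprod := hdir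
    refine ⟨hRP, hidx, ?_, ?_, hconn, ⟨?_, hXN, ?_, ?_, ?_⟩, ho⟩
    · rintro u ⟨huP, huC⟩
      obtain ⟨-, -, hcomm, hdisj, hsup⟩ := hdir
      have hu := hC huC
      rw [← hsup] at hu
      set K := (Cfsg.pPrimeCore p ↥(normalizer (R : Set G))).map (normalizer (R : Set G)).subtype with hK
      obtain ⟨a, ha, b, hb, rfl⟩ : ∃ a ∈ K, ∃ b ∈ R, a * b = u := by
        refine closure_induction (p := fun u _ => ∃ a ∈ K, ∃ b ∈ R, a * b = u) ?_ ?_ ?_ ?_
          (show u ∈ closure ((K : Set G) ∪ R) by rwa [← sup_eq_closure])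
        · rintro v (hv | hv)
          · exact ⟨v, hv, 1, one_mem _, mul_one v⟩
          · exact ⟨1, one_mem _, v, hv, one_mul v⟩
        · exact ⟨1, one_mem _, 1, one_mem _, one_mul 1⟩
        · rintro _ _ _ _ ⟨a, ha, b, hb, rfl⟩ ⟨c, hc, d, hd, rfl⟩
          refine ⟨a * c, mul_mem ha hc, b * d, mul_mem hb hd, ?_⟩
          rw [show a * b * (c * d) = a * (b * c) * d by group, ← hcomm c hc b hb]
          group
        · rintro _ _ ⟨a, ha, b, hb, rfl⟩
          refine ⟨a⁻¹, inv_mem ha, b⁻¹, inv_mem hb, ?_⟩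
          rw [hcomm a ha b hb, mul_inv_rev]
      have haP : a ∈ (P : Subgroup G) := by simpa using mul_mem huP (Subgroup.inv_mem _ (hRP hb))
      obtain ⟨k, hk⟩ := P.isPGroup' ⟨a, haP⟩
      have hcop : (Nat.card K).Coprime p := by
        rw [hK, card_map_of_injective (normalizer (R : Set G)).subtype_injective]
        exact PSolvable.card_pPrimeCore_coprime
      have ha1 : a = 1 := by
        refine orderOf_eq_one_iff.1 (Nat.eq_one_of_dvd_coprimes (hcop.pow_right k) ?_ ?_)
        · have h := orderOf_dvd_natCard (⟨a, ha⟩ : K)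
          rwa [Subgroup.orderOf_mk] at h
        · exact orderOf_dvd_of_pow_eq_one (congrArg Subtype.val hk)
      rw [ha1, one_mul]; exact hb
    · obtain ⟨-, hRle, hcomm, -, hsup⟩ := hprod
      refine le_antisymm (hsup.ge.trans (sup_le ?_ le_sup_left)) (sup_le hRle hC)
      exact fun a ha => mem_sup_right (mem_centralizer_iff.2 fun b hb => (hcomm a ha b hb).symm)
    · exact (map_subgroupOf_eq_of_le le_normalizer).ge.trans (map_mono hR'X)
    · rw [hXsub]; infer_instance
    · rwa [hrel X hXN, hXsub]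
    · intro Y hRY hYN hYn hdY
      haveI := hYn
      have hR'Y : R' ≤ Y.subgroupOf N := comap_mono hRY
      rw [hrel Y hYN, hcard _ hR'Y] at hdY
      have h1 := hleast _ (Normal.map hYn π hsurj) hdY
      have h2 : X' ≤ Y.subgroupOf N :=
        (comap_mono h1).trans (comap_map_eq_self (by rwa [hπ, QuotientGroup.ker_mk'])).le
      exact (map_mono h2).trans (map_subgroupOf_eq_of_le hYN).le
  -- `N = X N(U)` and `X = O^p(X) U`
  obtain ⟨x, hx, m, hm, hxm⟩ := mem_sup_of_normal_left.1
    (show (⟨n, hn⟩ : N) ∈ X' ⊔ normalizer (U : Set N) by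
      rw [sup_comm, hU, PLocal.normalizer_inf_sup_eq_top S X']; trivial)
  obtain ⟨T, hT⟩ := Lib.FS.exists_sylow_inf_normal_hyp S X'
  obtain ⟨o, ho, u, hu, hou⟩ := mem_sup_of_normal_left.1
    (show (⟨x, hx⟩ : X') ∈ Cfsg.pResidual p ↥X' ⊔ (T : Subgroup X') by
      rw [Transfer.PResidual.sup_sylow_eq_top]; trivial)
  have huU : (u : N) ∈ U := by
    rw [hT] at hu; exact hu
  have hgo : Good p (P : Subgroup G) (R : Set G) ((o : N) : G) := by
    refine .edge (hspecH _ ?_) subset_rfl
    exact ⟨X'.equivMapOfInjective N.subtype N.subtype_injective o,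
      Transfer.PResidual.map_pResidual_le
        ((X'.equivMapOfInjective N.subtype N.subtype_injective).toMonoidHom) ⟨o, ho, rfl⟩, rfl⟩
  have hgu : Good p (P : Subgroup G) (R : Set G) ((u : N) : G) :=
    hbigN U hUlt inf_le_left (u : N) fun v hv =>
      mul_mem (mul_mem (inv_mem huU.1) hv.1) huU.1
  have hgm : Good p (P : Subgroup G) (R : Set G) (m : G) :=
    hbigN U hUlt inf_le_left m fun v hv =>
      ((by simpa using (mem_normalizer_iff.1 (inv_mem hm) v).1 hv) : m⁻¹ * v * m ∈ U).1
  have h2 : Good p (P : Subgroup G) (R : Set G) (x : G) := by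
    have := hgo.comp_normalizer (o : N).2 hgu
    rwa [← Subgroup.coe_mul, ← Subgroup.coe_mul, hou] at this
  have h3 := h2.comp_normalizer x.2 hgm
  rwa [← Subgroup.coe_mul, hxm] at h3

theorem good_of_chain (P : Sylow p G) {A : Subgroup G} {g : G}
    (h : FusionChain p (P : Subgroup G) A g)
    (hmem : ∀ R : Subgroup G, Nat.card A ≤ Nat.card R → IsFusionBase p (P : Subgroup G) R →
      ∀ n ∈ normalizer (R : Set G), Good p (P : Subgroup G) (R : Set G) n) :
    Good p (P : Subgroup G) (A : Set G) g⁻¹ := by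
  induction h with
  | @base A R n hR hAR hn => exact (hmem R (card_le_of_le hAR) hR _ (inv_mem hn)).mono hAR
  | @comp A g h h₁ h₂ ih₁ ih₂ =>
    rw [mul_inv_rev]
    refine .comp (ih₁ hmem) ((ih₂ fun R hR => hmem R (by rwa [card_conjS] at hR)).mono ?_)
    rintro _ ⟨a, ha, rfl⟩
    simpa using conj_mem_conjS (g := g) ha

theorem good_of_card (P : Sylow p G) (A : Subgroup G) (hA : A ≤ P) (g : G)
    (hg : ∀ a ∈ A, g⁻¹ * a * g ∈ (P : Subgroup G))
    (hmem : ∀ R : Subgroup G, Nat.card A ≤ Nat.card R → IsFusionBase p (P : Subgroup G) R →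
      ∀ n ∈ normalizer (R : Set G), Good p (P : Subgroup G) (R : Set G) n) :
    Good p (P : Subgroup G) (A : Set G) g := by
  have hg' : conjS g⁻¹ A ≤ (P : Subgroup G) := by
    rintro _ ⟨a, ha, rfl⟩
    simpa using hg a ha
  simpa using good_of_chain P (alperin P A g⁻¹ hA hg') hmem

theorem good_base (P : Sylow p G) :
    ∀ R : Subgroup G, IsFusionBase p (P : Subgroup G) R → ∀ n ∈ normalizer (R : Set G),
      Good p (P : Subgroup G) (R : Set G) n := by
  intro R
  induction hd : Nat.card P - Nat.card R using Nat.strong_induction_on generalizing R with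
  | _ d ih =>
  intro hR n hn
  by_cases hRP : R = (P : Subgroup G)
  · subst hRP; exact .norm hn
  refine good_normalizer P R hR.1 hRP hR.2.1 (fun A hA hlt g hg => good_of_card P A hA g hg ?_) n hn
  intro R' hc hR'
  refine ih _ ?_ R' rfl hR'
  have h1 : Nat.card R < Nat.card A := lt_of_le_of_ne (card_le_of_le hlt.le) fun he =>
    hlt.ne (eq_of_le_of_card_ge hlt.le he.ge)
  have h2 := card_le_of_le hR'.1
  omega

theorem good_of_conj (P : Sylow p G) {A : Set G} (hA : A ⊆ (P : Set G)) (g : G)
    (hg : (fun a => g⁻¹ * a * g) '' A ⊆ (P : Set G)) : Good p (P : Subgroup G) A g := by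
  refine (good_of_card P (closure A) ((closure_le _).2 hA) g ?_ fun R _ hR => good_base P R hR).mono
    subset_closure
  have : closure A ≤ (P : Subgroup G).comap (MulAut.conj g⁻¹).toMonoidHom :=
    (closure_le _).2 fun a ha => by
      show g⁻¹ * a * g⁻¹⁻¹ ∈ (P : Subgroup G)
      rw [inv_inv]; exact hg ⟨a, ha, rfl⟩
  intro a ha
  simpa using this ha

/-- Moving along a list of steps. -/
def IsPath (p : ℕ) (P : Subgroup G) : Set G → List (Subgroup G × Subgroup G × G) → Prop
  | _, [] => True
  | A, (H, X, x) :: l => Spec p P H X x ∧ A ⊆ (H : Set G) ∧ IsPath p P ((fun a => x⁻¹ * a * x) '' A) l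

/-- The product of the conjugating elements of a list of steps. -/
def pathProd (l : List (Subgroup G × Subgroup G × G)) : G := (l.map fun s => s.2.2).prod

theorem IsPath.append {P : Subgroup G} : ∀ {A : Set G} {l m : List (Subgroup G × Subgroup G × G)},
    IsPath p P A l → IsPath p P ((fun a => (pathProd l)⁻¹ * a * pathProd l) '' A) m →
    IsPath p P A (l ++ m)
  | A, [], m, _, hm => by simpa [pathProd] using hm
  | A, (H, X, x) :: l, m, ⟨h1, h2, h3⟩, hm => by
    refine ⟨h1, h2, IsPath.append h3 ?_⟩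
    rw [Set.image_image]
    simpa [pathProd, mul_assoc] using hm

theorem IsPath.get {P : Subgroup G} : ∀ {A : Set G} {l : List (Subgroup G × Subgroup G × G)}, IsPath p P A l →
    ∀ i : Fin l.length, Spec p P (l.get i).1 (l.get i).2.1 (l.get i).2.2 ∧
      (fun a => ((l.map fun s => s.2.2).take i).prod⁻¹ * a * ((l.map fun s => s.2.2).take i).prod) '' A ⊆
        ((l.get i).1 : Set G)
  | A, (H, X, x) :: l, ⟨h1, h2, h3⟩, ⟨0, _⟩ => ⟨h1, by simpa using h2⟩
  | A, (H, X, x) :: l, ⟨h1, h2, h3⟩, ⟨i + 1, hi⟩ => by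
    obtain ⟨g1, g2⟩ := IsPath.get h3 ⟨i, Nat.lt_of_succ_lt_succ hi⟩
    refine ⟨g1, ?_⟩
    rw [Set.image_image] at g2
    simpa [mul_assoc] using g2

/-- Steps moved by an automorphism. -/
def mapPath (φ : MulAut G) (l : List (Subgroup G × Subgroup G × G)) :
    List (Subgroup G × Subgroup G × G) :=
  l.map fun s => (s.1.map φ.toMonoidHom, s.2.1.map φ.toMonoidHom, φ s.2.2)

theorem IsPath.map {P : Subgroup G} (φ : MulAut G) (hP : P.map φ.toMonoidHom = P) :
    ∀ {A : Set G} {l : List (Subgroup G × Subgroup G × G)}, IsPath p P A l →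
      IsPath p P (φ '' A) (mapPath φ l)
  | A, [], _ => trivial
  | A, (H, X, x) :: l, ⟨h1, h2, h3⟩ => by
    refine ⟨h1.map φ hP, ?_, ?_⟩
    · rintro _ ⟨a, ha, rfl⟩
      exact ⟨a, h2 ha, rfl⟩
    · have := IsPath.map φ hP h3
      rw [Set.image_image] at this ⊢
      simpa [mapPath] using this

theorem pathProd_map (φ : MulAut G) (l : List (Subgroup G × Subgroup G × G)) :
    pathProd (mapPath φ l) = φ (pathProd l) := by
  induction l with
  | nil => simp [pathProd, mapPath]
  | cons s l ih => simp only [pathProd, mapPath, List.map_cons, List.prod_cons, map_mul] at ih ⊢; rw [ih]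

theorem Good.exists_path {P : Subgroup G} {A : Set G} {g : G} (h : Good p P A g) :
    ∃ l, IsPath p P A l ∧ ∃ c ∈ centralizer A, ∃ y ∈ normalizer (P : Set G), g = c * pathProd l * y := by
  induction h with
  | @cen A g h => exact ⟨[], trivial, g, h, 1, one_mem _, by simp [pathProd]⟩
  | @norm A g h => exact ⟨[], trivial, 1, one_mem _, g, h, by simp [pathProd]⟩
  | @edge A g H X hH hA =>
    exact ⟨[(H, X, g)], ⟨hH, hA, trivial⟩, 1, one_mem _, 1, one_mem _, by simp [pathProd]⟩
  | @comp A g h h₁ h₂ ih₁ ih₂ =>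
    obtain ⟨l, hl, c, hc, y, hy, rfl⟩ := ih₁
    obtain ⟨m, hm, d, hd, y', hy', rfl⟩ := ih₂
    set π := pathProd l with hπ
    have hP : P.map (MulAut.conj y).toMonoidHom = P := mem_normalizer_iff_map_conj_eq.1 hy
    have himg : ∀ a ∈ A, (c * π * y)⁻¹ * a * (c * π * y) = y⁻¹ * (π⁻¹ * a * π) * y := by
      intro a ha
      calc (c * π * y)⁻¹ * a * (c * π * y) = y⁻¹ * (π⁻¹ * (c⁻¹ * (a * c)) * π) * y := by group
        _ = _ := by rw [mem_centralizer_iff.mp hc a ha]; group
    have hm' := hm.map (MulAut.conj y) hP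
    rw [Set.image_image, Set.image_congr (g := fun a => π⁻¹ * a * π) (fun a ha => by
      rw [himg a ha, MulAut.conj_apply]; group)] at hm'
    refine ⟨l ++ mapPath (MulAut.conj y) m, hl.append hm', c * (π * (y * d * y⁻¹) * π⁻¹),
      mul_mem hc ?_, y * y', mul_mem hy hy', ?_⟩
    · rw [mem_centralizer_iff]
      intro a ha
      have h1 := mem_centralizer_iff.mp hd _ ⟨a, ha, rfl⟩
      simp only at h1
      rw [himg a ha] at h1
      calc a * (π * (y * d * y⁻¹) * π⁻¹) = π * y * (y⁻¹ * (π⁻¹ * a * π) * y * d) * y⁻¹ * π⁻¹ := by group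
        _ = _ := by rw [h1]; group
    · have e : pathProd (l ++ mapPath (MulAut.conj y) m) = π * (y * pathProd m * y⁻¹) := by
        rw [pathProd, List.map_append, List.prod_append]
        exact congrArg (π * ·) ((pathProd_map _ m).trans (MulAut.conj_apply _ _))
      rw [e]; group

end Cfsg.Agent.Lib.FusionP3.StrongAG
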