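import Cfsg.Agent.Lib.Tech42.Goldschmidt
import Cfsg.Prelude.Def_SylowChains
import Cfsg.Prelude.Def_Transfer
import Cfsg.Agent.Lib.Transfer.PResidual

/-!
The conjugation steps of the strong Alperin-Goldschmidt theorem and their invariance.
-/

set_option autoImplicit false
set_option linter.unusedSectionVars false

namespace Cfsg.Agent.Lib.FusionP3.StrongAG

open Subgroup

variable {G : Type*} [Group G]

/-- The requirements on one step `(H, X, x)`. -/
def Spec (p : ℕ) (P H X : Subgroup G) (x : G) : Prop :=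
  H ≤ P ∧
    ¬ p ∣ (P ⊓ normalizer (H : Set G)).relIndex (normalizer (H : Set G)) ∧
    P ⊓ centralizer (H : Set G) ≤ H ∧
    (Cfsg.pPrimePCore p ↥(normalizer (H : Set G))).map (normalizer (H : Set G)).subtype =
      H ⊔ centralizer (H : Set G) ∧
    ¬ Cfsg.IsSylowChainConnected p
        (↥(normalizer (H : Set G)) ⧸ H.subgroupOf (normalizer (H : Set G))) ∧
    (H ≤ X ∧ X ≤ normalizer (H : Set G) ∧
      (X.subgroupOf (normalizer (H : Set G))).Normal ∧ p ∣ H.relIndex X ∧
      ∀ Y : Subgroup G, H ≤ Y → Y ≤ normalizer (H : Set G) →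
        (Y.subgroupOf (normalizer (H : Set G))).Normal → p ∣ H.relIndex Y → X ≤ Y) ∧
    x ∈ (Cfsg.pResidual p ↥X).map X.subtype

section Transport

variable {A B : Type*} [Group A] [Group B] [Finite A] {p : ℕ} [Fact p.Prime]

theorem chainConnected_of_equiv (e : A ≃* B) (h : Cfsg.IsSylowChainConnected p A) :
    Cfsg.IsSylowChainConnected p B := by
  have hker : IsPGroup p (e : A →* B).ker := by
    rw [(MonoidHom.ker_eq_bot_iff _).2 e.injective]; exact IsPGroup.of_bot
  intro S T
  obtain ⟨n, c, h0, hl, hm, hs⟩ :=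
    h (S.comapOfKerIsPGroup (e : A →* B) hker (fun x _ => MonoidHom.mem_range.2 (e.surjective x)))
      (T.comapOfKerIsPGroup (e : A →* B) hker (fun x _ => MonoidHom.mem_range.2 (e.surjective x)))
  have hsurj : Function.Surjective (e : A →* B) := e.surjective
  refine ⟨n, fun i => (c i).mapSurjective hsurj, ?_, ?_, fun i => ?_, fun i => ?_⟩
  · refine Sylow.ext ?_
    rw [Sylow.coe_mapSurjective, h0]
    exact map_comap_eq_self_of_surjective hsurj _
  · refine Sylow.ext ?_
    rw [Sylow.coe_mapSurjective, hl]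
    exact map_comap_eq_self_of_surjective hsurj _
  · have := map_mono (f := (e : A →* B)) (hm i)
    change map _ (comap (e : A →* B) (S : Subgroup B) ⊓ comap (e : A →* B) (T : Subgroup B)) ≤ _ at this
    rwa [← comap_inf, map_comap_eq_self_of_surjective hsurj] at this
  · obtain ⟨hne, hbot⟩ := hs i
    refine ⟨fun he => hne (Sylow.ext (map_injective (f := (e : A →* B)) e.injective ?_)), fun he => hbot ?_⟩
    · have := congrArg (fun U : Sylow p B => (U : Subgroup B)) he
      simpa only [Sylow.coe_mapSurjective] using this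
    · rw [Sylow.coe_mapSurjective, Sylow.coe_mapSurjective, ← map_inf _ _ _ e.injective] at he
      exact (map_eq_bot_iff_of_injective _ e.injective).1 he

end Transport

variable [Finite G] {p : ℕ} [Fact p.Prime]

theorem map_pPrimePCore_le' {A B : Type*} [Group A] [Group B] [Finite A] (f : A →* B)
    (hf : Function.Surjective f) : (Cfsg.pPrimePCore p A).map f ≤ Cfsg.pPrimePCore p B := by
  rintro _ ⟨a, ha, rfl⟩
  let q := QuotientGroup.map (Cfsg.pPrimeCore p A) (Cfsg.pPrimeCore p B) f
    (map_le_iff_le_comap.1 (PSolvable.map_pPrimeCore_le f hf))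
  refine PSolvable.map_pCore_le q (fun b => ?_) ⟨_, ha, rfl⟩
  obtain ⟨b, rfl⟩ := QuotientGroup.mk'_surjective _ b
  obtain ⟨a', rfl⟩ := hf b
  exact ⟨QuotientGroup.mk' _ a', rfl⟩

theorem map_normalizer' (φ : MulAut G) (H : Subgroup G) :
    (normalizer (H : Set G)).map φ.toMonoidHom = normalizer ((H.map φ.toMonoidHom : Subgroup G) : Set G) :=
  map_equiv_normalizer_eq H φ

theorem map_centralizer' (φ : MulAut G) (H : Subgroup G) :
    (centralizer (H : Set G)).map φ.toMonoidHom = centralizer ((H.map φ.toMonoidHom : Subgroup G) : Set G) := by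
  ext y
  obtain ⟨x, rfl⟩ := φ.surjective y
  rw [show φ x = φ.toMonoidHom x from rfl, mem_map_iff_mem φ.injective, mem_centralizer_iff, mem_centralizer_iff]
  constructor
  · rintro h _ ⟨a, ha, rfl⟩
    rw [← map_mul, ← map_mul, h a ha]
  · intro h a ha
    refine φ.injective ?_
    have := h _ ⟨a, ha, rfl⟩
    simpa using this

theorem relIndex_map (φ : MulAut G) (A B : Subgroup G) :
    (A.map φ.toMonoidHom).relIndex (B.map φ.toMonoidHom) = A.relIndex B :=
  relIndex_map_map_of_injective A B φ.injective

/-- Steps are invariant under automorphisms fixing `P`. -/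
theorem Spec.map (φ : MulAut G) {P H X : Subgroup G} {x : G} (hP : P.map φ.toMonoidHom = P)
    (h : Spec p P H X x) : Spec p P (H.map φ.toMonoidHom) (X.map φ.toMonoidHom) (φ x) := by
  obtain ⟨h1, h2, h3, h4, h5, ⟨hHX, hXN, hXn, hd, hmin⟩, h7⟩ := h
  set f := φ.toMonoidHom
  set N := normalizer (H : Set G) with hN
  have hNmap : N.map f = normalizer ((H.map f : Subgroup G) : Set G) := map_normalizer' φ H
  let e : N ≃* ↥(normalizer ((H.map f : Subgroup G) : Set G)) :=
    (N.equivMapOfInjective f φ.injective).trans (MulEquiv.subgroupCongr hNmap)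
  have he : ∀ n : N, ((e n : ↥(normalizer ((H.map f : Subgroup G) : Set G))) : G) = f n := fun _ => rfl
  have hsub : ∀ Y : Subgroup G, (Y.subgroupOf N).map (e : N →* _) =
      (Y.map f).subgroupOf (normalizer ((H.map f : Subgroup G) : Set G)) := by
    intro Y
    ext z
    obtain ⟨n, rfl⟩ := e.surjective z
    rw [mem_subgroupOf, he, mem_map_iff_mem φ.injective,
      show e n = (e : N →* _) n from rfl, mem_map_iff_mem e.injective, mem_subgroupOf]
  refine ⟨hP ▸ map_mono h1, ?_, ?_, ?_, ?_, ⟨map_mono hHX, ?_, ?_, ?_, ?_⟩, ?_⟩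
  · rw [← hP, ← hNmap, ← map_inf _ _ _ φ.injective, relIndex_map]
    exact h2
  · rw [← hP, ← map_centralizer' φ H, ← map_inf _ _ _ φ.injective]
    exact map_mono h3
  · rw [← map_centralizer' φ H, ← Subgroup.map_sup, ← h4, map_map]
    have hcore : (Cfsg.pPrimePCore p N).map (e : N →* _) =
        Cfsg.pPrimePCore p ↥(normalizer ((H.map f : Subgroup G) : Set G)) := by
      refine le_antisymm (map_pPrimePCore_le' e.toMonoidHom e.surjective) fun z hz => ?_
      obtain ⟨n, rfl⟩ := e.surjective z
      refine ⟨n, ?_, rfl⟩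
      have := map_pPrimePCore_le' e.symm.toMonoidHom e.symm.surjective ⟨e n, hz, rfl⟩
      rwa [MulEquiv.coe_toMonoidHom, MulEquiv.symm_apply_apply] at this
    rw [← hcore, map_map]
    exact congrArg (fun g => (Cfsg.pPrimePCore p N).map g) (MonoidHom.ext he)
  · intro hc
    haveI : (H.subgroupOf N).Normal := normal_in_normalizer
    haveI : ((H.map f).subgroupOf (normalizer ((H.map f : Subgroup G) : Set G))).Normal := normal_in_normalizer
    exact h5 (chainConnected_of_equiv (QuotientGroup.congr _ _ e (hsub H)).symm hc)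
  · rw [← hNmap]; exact map_mono hXN
  · rw [← hsub X]; exact hXn.map _ e.surjective
  · rwa [relIndex_map]
  · intro Y hY1 hY2 hY3 hY4
    have hYe : (Y.comap f).map f = Y := map_comap_eq_self_of_surjective φ.surjective Y
    have := hmin (Y.comap f) (map_le_iff_le_comap.1 hY1)
      (by rw [← map_le_map_iff_of_injective (f := f) φ.injective, hYe, hNmap]; exact hY2)
      (by
        have hh := hsub (Y.comap f)
        rw [hYe] at hh
        rw [← comap_map_eq_self_of_injective (f := (e : N →* ↥(normalizer ((H.map f : Subgroup G) : Set G)))) e.injective ((Y.comap f).subgroupOf N), hh]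
        exact hY3.comap _)
      (by rw [← relIndex_map φ, hYe]; exact hY4)
    exact (map_mono this).trans hYe.le
  · obtain ⟨o, ho, rfl⟩ := h7
    let ex : X ≃* ↥(X.map f) := X.equivMapOfInjective f φ.injective
    exact ⟨ex o, Transfer.PResidual.map_pResidual_le (ex : X →* ↥(X.map f)) ⟨o, ho, rfl⟩, rfl⟩

end Cfsg.Agent.Lib.FusionP3.StrongAG
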